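import Cfsg.Agent.CosetCert.Fi22Chain5.CheckLog0

/-! Generated: kernel checks combined. -/

namespace Cfsg.Agent.CosetCert.Fi22Chain5

theorem log_ok : ∀ i, i < 240 → data.checkLog i = true := by
  have h0 : ∀ i, i < 0 → data.checkLog i = true := forall_lt_zero
  have h1 := forall_lt_step (b := 240) h0 log_okAt0 rfl
  exact h1

end Cfsg.Agent.CosetCert.Fi22Chain5
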