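import Cfsg.Agent.CosetCert.Fi22Chain5.FactsData
import Cfsg.Agent.CosetCert.Fi22Chain5.JustData
import Cfsg.Agent.CosetCert.Fi22Chain5.TableData
import Cfsg.Prelude.Def_Spor_Fi22
import Cfsg.Agent.CosetCert.Pack

/-! Generated: the certificate. -/

namespace Cfsg.Agent.CosetCert.Fi22Chain5

noncomputable def data : Data where
  K := 4
  n := 120
  M := 119
  Nf := 240
  nR := 15
  iv := fun x => x
  F := get48 factStore
  J := getVar justStore
  E := get48 edgeStore
  L := get48 repStore
  P := get48 treeStore
  W := [
    [0, 0],
    [0, 1, 0, 1, 0, 1],
    [0, 2, 0, 2],
    [0, 3, 0, 3, 0, 3],
    [1, 1],
    [1, 2, 1, 2, 1, 2],
    [1, 3, 1, 3],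
    [2, 2],
    [2, 3, 2, 3],
    [3, 3],
    [],
    [0, 0],
    [1, 1],
    [2, 2],
    [3, 3]]
  PW := fun k => Nat.land (Nat.shiftRight 0x84000000000000000000000000000000000000000000000000000000000000000000000000000000000000000000000000000000000000000000000000000000630000000000000000000000000000000000000000000000000000000000000000000000000000000000000000000000000000000000000000000000000000004200000000000000000000000000000000000000000000000000000000000000000000000000000000000000000000000000000000000000000000000000000021000000000000000000000000000000000000000000000000000000000000000000000000000000000000000000000000000000000000000000000000000000000000000000000000000000000000000000000000000000000000000000000000000000000000000000000000000000000000000000000000000000000000008400000000000000000000000000000000000000000000000000000000000000000000000000000000000000000000000000000000000000000000000000020c830000000000000000000000000000000000000000000000000000000000000000000000000000000000000000000000000000000000000000000000000000006300000000000000000000000000000000000000000000000000000000000000000000000000000000000000000000000000000000000000000000000000020882000000000000000000000000000000000000000000000000000000000000000000000000000000000000000000000000000000000000000000000000062188620000000000000000000000000000000000000000000000000000000000000000000000000000000000000000000000000000000000000000000000000000004200000000000000000000000000000000000000000000000000000000000000000000000000000000000000000000000000000000000000000000000008120481000000000000000000000000000000000000000000000000000000000000000000000000000000000000000000000000000000000000000000000000000184610000000000000000000000000000000000000000000000000000000000000000000000000000000000000000000000000000000000000000000000000411044100000000000000000000000000000000000000000000000000000000000000000000000000000000000000000000000000000000000000000000000000000021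 (Nat.mul 512 k)) 13407807929942597099574024998205846127479365820592393377723561443721764030073546976801874298166903427690031858186486050853753882811946569946433649006084095
  powers := [
    ([0], 2),
    ([0, 1], 3),
    ([0, 2], 2),
    ([0, 3], 3),
    ([1], 2),
    ([1, 2], 3),
    ([1, 3], 2),
    ([2], 2),
    ([2, 3], 2),
    ([3], 2),
    ([], 0),
    ([0], 2),
    ([1], 2),
    ([2], 2),
    ([3], 2)]

/-- The relators of the subgroup's presentation. -/
def relWords : List (List (Fin 4 × Bool)) := [
    [(0, true), (0, true)],
    [(0, true), (1, true), (0, true), (1, true), (0, true), (1, true)],
    [(0, true), (2, true), (0, true), (2, true)],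
    [(0, true), (3, true), (0, true), (3, true), (0, true), (3, true)],
    [(1, true), (1, true)],
    [(1, true), (2, true), (1, true), (2, true), (1, true), (2, true)],
    [(1, true), (3, true), (1, true), (3, true)],
    [(2, true), (2, true)],
    [(2, true), (3, true), (2, true), (3, true)],
    [(3, true), (3, true)]]

/-- The subgroup's generators. -/
def subLetters : List (Fin 4) := []

/-- The numbering of the generators. -/
def enc (b : Fin 4) : Nat := b.val

/-- The generator of a number. -/
def dec (x : Nat) : Fin 4 × Bool := (Fin.ofNat 4 x, true)

/-- The generators among those of the whole group. -/
def ren : Fin 4 → Cfsg.Spor.Fi22.Gen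
  | ⟨0, _⟩ => .d
  | ⟨1, _⟩ => .e
  | ⟨2, _⟩ => .f
  | ⟨3, _⟩ => .h

end Cfsg.Agent.CosetCert.Fi22Chain5
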