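import Cfsg.Agent.CosetCert.Pack

/-! Generated: the facts of the log. -/

namespace Cfsg.Agent.CosetCert.Fi22Chain5

def factStore : Store := (.node 1 (.leaf 0x2000160000b00000140000903000130000d020001200007010001000007010000e00008020000c00004010000a0000400000060000302000770007302000760007002000750006d02000740006b01000730006a020007200067020007100065010007000064020006f00062020006e00060010006d0005f020006c0005d010006b0005c000006a0005b02000690005902000680005701000670005602000660005401000650005300000640005202000630005001000620004f02000610004d01000600004c000005f0004b020005e0004a010005d00049000005c00048030005b00047020005a0004501000590004402000580004201000570004100000560004002000550003f01000540003e00000530003d03000520003c02000510003a010005000039000004f00038020004e00037010004d00036000004c00035030004b00034010004a0003300000490003203000480003100000470003102000460002f01000450002e00000440002d02000430002c01000420002b00000410002a030004000029010003f00028000003e00027030003d00026000003c00026020003b00025010003a0002400000390002303000380002201000370002100000360002003000350001f00000340001f00000330001e03000320001d01000310001d02000300001c010002f0001b000002e0001a030002d00019010002c00018000002b00017030002a0001600000290001600000280001503000270001401000260001401000250001300000240001203000230001100000220001100000210001003000200000f010001f0000f030001e0000e020001d0000e010001c0000d000001b0000c030001a0000b00000190000b00000180000a030001700009010001600009030001500008020001400008000001300007030001200006010001100006030001000005020000f00005000000e00005000000d00004030000c00003010000b00003030000a00002020000900002000000800002030000700001020000600001010000500001030000400000020000300000010000200000000000100000)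 (.leaf 0x1000770007603000770007400000770007503000760007100000760007201000750006f03000750006e01000740007100000740006c00000730006d03000730006b010007200069030007200068000007100066000007000067030007000065030006f00063000006f00069010006e00063000006e00061030006d00060010006c0005e030006c00061000006b0005d030006a0005c020006a0006403000690005a01000680005a00000680005803000670005701000660005503000660005800000650005403000640005300000630005100000620005903000620005001000610004e00000600004d030005f0004c020005f0004f030005e0004e000005e00055030005d0004d020005c00053020005b00052010005b0004b000005a0004603000590004501000580004300000570004203000560004102000560004403000550004303000540004201000520004001000510003b03000510004600000500003a030004f00039000004e0003b020004c00039020004b00038000004a0003f030004a0003703000490003602000490003302000480003d01000480003201000470003402000470003c01000460003000000450002f03000440002e00000430003002000410002e02000400002d030003f0002c030003e0002b020003e00028010003d00027010003c00029030003b00030030003a0002f01000380002d00000370002502000360002102000350002301000350002002000340002203000330002102000320001e020003100026000002c0001c020002b00018020002a0001a010002a0001702000290001903000280001802000270001503000250001c03000240001b020002400013010002300012010002200019020002000010020001f00011010001e00015000001d0000f020001b0000d010001a0000c02000170000a))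

end Cfsg.Agent.CosetCert.Fi22Chain5
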