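import Cfsg.Agent.CosetCert.Fi22Chain5.Cert
import Cfsg.Agent.CosetCert.Chain

/-! Generated: the presentation is spelled by the certificate. -/

namespace Cfsg.Agent.CosetCert.Fi22Chain5

theorem spells : Data.Spells data (wordRels relWords) (subLetters.map FreeGroup.of) enc dec relWords := by
  apply spells_words data
  · show ∀ b : Fin 4, _
    decide +kernel
  · show ∀ x, x < 4 → _
    intro x hx
    interval_cases x <;> exact ⟨rfl, rfl, rfl⟩
  · decide +kernel
  · decide +kernel
  · decide +kernel

theorem index_bound : (Data.sub (wordRels relWords) (subLetters.map FreeGroup.of)).index ≠ 0 ∧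
    (Data.sub (wordRels relWords) (subLetters.map FreeGroup.of)).index ≤ 120 :=
  Data.index_le log_valid spells

end Cfsg.Agent.CosetCert.Fi22Chain5
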